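import Mathlib.Topology.Sheaves.Functors
import Mathlib.Topology.Sheaves.Stalks
import Mathlib.Topology.Sheaves.SheafCondition.UniqueGluing
import Mathlib.CategoryTheory.Adjunction.FullyFaithful

/-!
Direct image of sheaves of sets along (closed) embeddings.
-/

set_option autoImplicit false

universe u

open TopologicalSpace Opposite CategoryTheory TopCat

namespace Groth.Agent.ShBasis

variable {Z X : TopCat.{u}} (i : Z ⟶ X)

theorem map_map {Y : TopCat.{u}} (F : Y.Sheaf (Type u)) {A B C : (Opens Y)ᵒᵖ} (a : A ⟶ B) (b : B ⟶ C) (c : A ⟶ C)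
    (x : F.presheaf.obj A) : F.presheaf.map b (F.presheaf.map a x) = F.presheaf.map c x := by
  rw [← FunctorToTypes.map_comp_apply]
  exact congrArg (fun h => F.presheaf.map h x) (Quiver.Hom.unop_inj (Subsingleton.elim _ _))

theorem map_self {Y : TopCat.{u}} (F : Y.Sheaf (Type u)) {A : (Opens Y)ᵒᵖ} (a : A ⟶ A) (x : F.presheaf.obj A) :
    F.presheaf.map a x = x := by
  rw [show a = 𝟙 A from Quiver.Hom.unop_inj (Subsingleton.elim _ _)]
  simp

theorem faithful_pushforward (hi : Topology.IsInducing i) : (TopCat.Sheaf.pushforward (Type u) i).Faithful where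
  map_injective {F G} a b h := by
    refine Sheaf.hom_ext ?_
    ext V s
    obtain ⟨W, hW⟩ : ∃ W, (Opens.map i).obj W = V.unop := ⟨_, hi.map_functorObj V.unop⟩
    induction V with
    | op V =>
    subst hW
    exact ConcreteCategory.congr_hom (NatTrans.congr_app (congrArg (fun z => z.1) h) (op W)) s

theorem full_pushforward (hi : Topology.IsInducing i) : (TopCat.Sheaf.pushforward (Type u) i).Full where
  map_surjective {F G} ψ := by
    let e : ∀ V : Opens Z, (Opens.map i).obj (hi.functor.obj V) = V := hi.map_functorObj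
    let φ : F ⟶ G := ⟨{
      app := fun V => ↾(fun s => G.presheaf.map (eqToHom (e V.unop).symm).op
        (ψ.1.app (op (hi.functor.obj V.unop)) (F.presheaf.map (eqToHom (e V.unop)).op s)))
      naturality := fun V V' j => by
        ext s
        have h := ConcreteCategory.congr_hom (ψ.1.naturality (hi.functor.map j.unop).op)
          (F.presheaf.map (eqToHom (e V.unop)).op s)
        show G.presheaf.map (eqToHom (e V'.unop).symm).op (ψ.1.app _ (F.presheaf.map (eqToHom (e V'.unop)).op (F.presheaf.map j s))) =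
          G.presheaf.map j (G.presheaf.map (eqToHom (e V.unop).symm).op (ψ.1.app _ (F.presheaf.map (eqToHom (e V.unop)).op s)))
        rw [map_map F j _ ((eqToHom (e V.unop)).op ≫ ((Opens.map i).map (hi.functor.map j.unop)).op),
          map_map G _ j (((Opens.map i).map (hi.functor.map j.unop)).op ≫ (eqToHom (e V'.unop).symm).op),
          FunctorToTypes.map_comp_apply, FunctorToTypes.map_comp_apply]
        exact congrArg _ h }⟩
    refine ⟨φ, Sheaf.hom_ext ?_⟩
    ext W s
    have hle : W.unop ≤ hi.functor.obj ((Opens.map i).obj W.unop) := (hi.le_functorObj_iff).2 le_rfl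
    have h := ConcreteCategory.congr_hom (ψ.1.naturality (homOfLE hle).op)
      (F.presheaf.map (eqToHom (e ((Opens.map i).obj W.unop))).op s)
    show G.presheaf.map (eqToHom (e ((Opens.map i).obj W.unop)).symm).op
      (ψ.1.app (op (hi.functor.obj ((Opens.map i).obj W.unop))) (F.presheaf.map (eqToHom (e ((Opens.map i).obj W.unop))).op s)) =
      ψ.1.app W s
    refine (congrArg (fun q => q) h.symm).trans ?_
    refine congrArg (ψ.1.app W) ?_
    exact (map_map F _ _ (𝟙 _) s).trans (map_self F _ s)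

theorem isIso_counit (hi : Topology.IsInducing i) (F : Z.Sheaf (Type u)) :
    IsIso ((TopCat.Sheaf.pullbackPushforwardAdjunction (Type u) i).counit.app F) := by
  haveI := faithful_pushforward i hi
  haveI := full_pushforward i hi
  exact inferInstance

theorem unique_sections_empty {Y : TopCat.{u}} (F : Y.Sheaf (Type u)) (O : Opens Y) (hO : ∀ x, x ∉ O) :
    ∃! _s : F.presheaf.obj (op O), True := by
  obtain ⟨s, -, hu⟩ := TopCat.Sheaf.existsUnique_gluing' F (fun k : PEmpty.{u + 1} => k.elim) O (fun k => k.elim)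
    (fun x hx => absurd hx (hO x)) (fun k => k.elim) (fun k => k.elim)
  exact ⟨s, trivial, fun t _ => hu t fun k => k.elim⟩

theorem unique_stalk_pushforward (hi : Topology.IsClosedEmbedding i) (F : Z.Sheaf (Type u)) (x : X)
    (hx : x ∉ Set.range i) :
    Nonempty (Unique (((TopCat.Sheaf.pushforward (Type u) i).obj F).presheaf.stalk x)) := by
  let O : Opens X := ⟨(Set.range i)ᶜ, hi.isClosed_range.isOpen_compl⟩
  have hO : ∀ V : Opens X, V ≤ O → ∀ z, z ∉ (Opens.map i).obj V := fun V hV z hz => hV hz ⟨z, rfl⟩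
  let P := ((TopCat.Sheaf.pushforward (Type u) i).obj F).presheaf
  obtain ⟨s, -, -⟩ := unique_sections_empty F ((Opens.map i).obj O) (hO O le_rfl)
  refine ⟨⟨⟨P.germ O x hx s⟩, fun t => ?_⟩⟩
  obtain ⟨V, hV, t', rfl⟩ := P.germ_exist t
  rw [← TopCat.Presheaf.germ_res_apply P (homOfLE (inf_le_left : V ⊓ O ≤ V)) x ⟨hV, hx⟩ t']
  show P.germ (V ⊓ O) x ⟨hV, hx⟩ _ = P.germ O x hx s
  rw [← TopCat.Presheaf.germ_res_apply P (homOfLE (inf_le_right : V ⊓ O ≤ O)) x ⟨hV, hx⟩ s]
  exact congrArg _ ((unique_sections_empty F _ (hO _ inf_le_right)).unique trivial trivial)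

variable (G : X.Sheaf (Type u)) (hG : ∀ x : X, x ∉ Set.range i → Nonempty (Unique (G.presheaf.stalk x)))

theorem sections_off (hi : Topology.IsClosedEmbedding i) (O : Opens X) (hO : ∀ x ∈ O, x ∉ Set.range i)
    (hG : ∀ x : X, x ∉ Set.range i → Nonempty (Unique (G.presheaf.stalk x))) : ∃! _s : G.presheaf.obj (op O), True := by
  have huniq : ∀ (V : Opens X), V ≤ O → ∀ s t : G.presheaf.obj (op V), s = t := fun V hV s t =>
    TopCat.Presheaf.section_ext G V s t fun x hx => by
      obtain ⟨u⟩ := hG x (hO x (hV hx))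
      exact (u.uniq _).trans (u.uniq _).symm
  have hloc : ∀ x : O, ∃ (V : Opens X), x.1 ∈ V ∧ V ≤ O ∧ Nonempty (G.presheaf.obj (op V)) := fun x => by
    obtain ⟨u⟩ := hG x.1 (hO x.1 x.2)
    obtain ⟨V, hV, t, -⟩ := G.presheaf.germ_exist u.default
    exact ⟨V ⊓ O, ⟨hV, x.2⟩, inf_le_right, ⟨G.presheaf.map (homOfLE inf_le_left).op t⟩⟩
  choose V hV hVO hne using hloc
  obtain ⟨s, -, -⟩ := TopCat.Sheaf.existsUnique_gluing' G V O (fun k => homOfLE (hVO k))
    (fun x hx => Opens.mem_iSup.2 ⟨⟨x, hx⟩, hV ⟨x, hx⟩⟩) (fun k => (hne k).some)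
    (fun k l => huniq _ (inf_le_left.trans (hVO k)) _ _)
  exact ⟨s, trivial, fun t _ => huniq O le_rfl t s⟩

theorem bijective_restrict (hi : Topology.IsClosedEmbedding i) {W W' : Opens X} (h : W' ≤ W)
    (he : (Opens.map i).obj W ≤ (Opens.map i).obj W')
    (hG : ∀ x : X, x ∉ Set.range i → Nonempty (Unique (G.presheaf.stalk x))) :
    Function.Bijective (G.presheaf.map (homOfLE h).op) := by
  have hoff : ∀ x ∈ W, x ∉ W' → x ∉ Set.range i := by
    rintro _ hx hx' ⟨z, rfl⟩
    exact hx' (he hx)
  refine ⟨fun s t hst => TopCat.Presheaf.section_ext G W s t fun x hx => ?_, fun t => ?_⟩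
  · by_cases hx' : x ∈ W'
    · rw [← TopCat.Presheaf.germ_res_apply G.presheaf (homOfLE h) x hx' s,
        ← TopCat.Presheaf.germ_res_apply G.presheaf (homOfLE h) x hx' t]
      exact congrArg _ hst
    · obtain ⟨u⟩ := hG x (hoff x hx hx')
      exact (u.uniq _).trans (u.uniq _).symm
  · classical
    let O : Opens X := W ⊓ ⟨(Set.range i)ᶜ, hi.isClosed_range.isOpen_compl⟩
    obtain ⟨a, -, -⟩ := sections_off i G hi O (fun x hx => hx.2) hG
    let V : ULift.{u} Bool → Opens X := fun b => cond b.down W' O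
    let sf : ∀ b, G.presheaf.obj (op (V b)) := fun b => match b with
      | ⟨true⟩ => t
      | ⟨false⟩ => a
    obtain ⟨s, hs, -⟩ := TopCat.Sheaf.existsUnique_gluing' G V W
      (fun b => homOfLE (match b with | ⟨true⟩ => h | ⟨false⟩ => inf_le_left))
      (fun x hx => Opens.mem_iSup.2 (if hx' : x ∈ W' then ⟨⟨true⟩, hx'⟩ else ⟨⟨false⟩, hx, hoff x hx hx'⟩)) sf
      (fun b b' => by
        have key : ∀ (A : Opens X), A ≤ O → ∀ s t : G.presheaf.obj (op A), s = t := fun A hA s t =>
          (sections_off i G hi A (fun x hx => (hA hx).2) hG).unique trivial trivial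
        rcases b with ⟨_ | _⟩ <;> rcases b' with ⟨_ | _⟩
        · exact key _ inf_le_left _ _
        · exact key _ inf_le_left _ _
        · exact key _ inf_le_right _ _
        · exact congrArg (fun f => G.presheaf.map f t) (Quiver.Hom.unop_inj (Subsingleton.elim _ _)))
    exact ⟨s, hs ⟨true⟩⟩

/-- the inverse image presheaf -/
noncomputable def traceSheaf (hi : Topology.IsClosedEmbedding i)
    (hG : ∀ x : X, x ∉ Set.range i → Nonempty (Unique (G.presheaf.stalk x))) : Z.Sheaf (Type u) :=
  ⟨hi.isInducing.functor.op ⋙ G.presheaf, by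
    show TopCat.Presheaf.IsSheaf _
    rw [TopCat.Presheaf.isSheaf_iff_isSheafUniqueGluing_types]
    intro ι V sf hsf
    let W : ι → Opens X := fun k => hi.isInducing.functor.obj (V k)
    have hle : ∀ k, W k ≤ hi.isInducing.functor.obj (iSup V) := fun k =>
      leOfHom (hi.isInducing.functor.map (homOfLE (le_iSup V k)))
    have hpre : (Opens.map i).obj (hi.isInducing.functor.obj (iSup V)) ≤ (Opens.map i).obj (iSup W) := fun z hz => by
      obtain ⟨k, hk⟩ := Opens.mem_iSup.1 ((hi.isInducing.map_functorObj (iSup V)).le hz)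
      exact Opens.mem_iSup.2 ⟨k, (hi.isInducing.map_functorObj (V k)).ge hk⟩
    have hb := bijective_restrict i G hi (iSup_le hle) hpre hG
    obtain ⟨g, hg, hu⟩ := TopCat.Sheaf.existsUnique_gluing G W sf (fun k l => by
      have hw : W k ⊓ W l ≤ hi.isInducing.functor.obj (V k ⊓ V l) :=
        (hi.isInducing.le_functorObj_iff).2 fun z hz =>
          ⟨(hi.isInducing.map_functorObj (V k)).le hz.1, (hi.isInducing.map_functorObj (V l)).le hz.2⟩
      refine Eq.trans ?_ ((congrArg (G.presheaf.map (homOfLE hw).op) (hsf k l)).trans ?_)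
      · exact (map_map G _ _ _ (sf k)).symm
      · exact map_map G _ _ _ (sf l))
    obtain ⟨s, hs⟩ := hb.2 g
    refine ⟨s, fun k => ?_, fun s' hs' => hb.1 ?_⟩
    · refine Eq.trans ?_ (hg k)
      rw [← hs]
      exact (map_map G _ _ _ s).symm
    · rw [hs]
      exact hu _ fun k => (map_map G _ _ _ s').trans (hs' k)⟩

theorem mem_essImage (hi : Topology.IsClosedEmbedding i)
    (hG : ∀ x : X, x ∉ Set.range i → Nonempty (Unique (G.presheaf.stalk x))) :
    (TopCat.Sheaf.pushforward (Type u) i).essImage G := by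
  refine ⟨traceSheaf i G hi hG, ⟨?_⟩⟩
  have hle : ∀ W : Opens X, W ≤ hi.isInducing.functor.obj ((Opens.map i).obj W) := fun W =>
    (hi.isInducing.le_functorObj_iff).2 le_rfl
  let α : ((TopCat.Sheaf.pushforward (Type u) i).obj (traceSheaf i G hi hG)) ⟶ G := ⟨{
    app := fun W => G.presheaf.map (homOfLE (hle W.unop)).op
    naturality := fun W W' j => by
      ext s
      exact (map_map G _ _ ((homOfLE (hle W.unop)).op ≫ j) s).trans (map_map G _ _ ((homOfLE (hle W.unop)).op ≫ j) s).symm }⟩
  haveI : IsIso α.1 := by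
    haveI : ∀ W, IsIso (α.1.app W) := fun W => (isIso_iff_bijective _).2
      (bijective_restrict i G hi (hle W.unop) (hi.isInducing.map_functorObj _).le hG)
    exact NatIso.isIso_of_isIso_app α.1
  haveI : IsIso ((TopCat.Sheaf.forget (Type u) X).map α) := ‹IsIso α.1›
  haveI := isIso_of_reflects_iso α (TopCat.Sheaf.forget (Type u) X)
  exact asIso α

theorem unique_stalk_of_iso {G G' : X.Sheaf (Type u)} (e : G ≅ G') (x : X) (h : Nonempty (Unique (G.presheaf.stalk x))) :
    Nonempty (Unique (G'.presheaf.stalk x)) := by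
  obtain ⟨u⟩ := h
  let e' := ((TopCat.Presheaf.stalkFunctor (Type u) x).mapIso ((TopCat.Sheaf.forget (Type u) X).mapIso e)).toEquiv
  exact ⟨@Equiv.unique _ _ u e'.symm⟩

end Groth.Agent.ShBasis
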