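import Groth.Prelude.Def_W4stktopologysheavesBas
import Mathlib.Topology.Sheaves.SheafCondition.UniqueGluing

/-!
Sheaves of sets on a basis: separatedness, gluing, extension to all opens.
-/

set_option autoImplicit false

universe u

open TopologicalSpace Opposite CategoryTheory

namespace Groth.Agent.ShBasis

variable {X : Type u} [TopologicalSpace X] {B : Set (Opens X)}

theorem res_eq (F : ShB.Pre B) {U V W : B} (h₁ : (V : Opens X) ≤ U) (h₂ : (W : Opens X) ≤ V)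
    (h : (W : Opens X) ≤ U) (s : F.obj U) : F.res h₂ (F.res h₁ s) = F.res h s := F.res_comp h₁ h₂ s

theorem exists_member (hB : Opens.IsBasis B) {O : Opens X} {x : X} (hx : x ∈ O) :
    ∃ T : B, x ∈ (T : Opens X) ∧ (T : Opens X) ≤ O := by
  obtain ⟨T, hT, hxT, hle⟩ := Opens.isBasis_iff_nbhd.1 hB hx
  exact ⟨⟨T, hT⟩, hxT, hle⟩

/-- separatedness for a presheaf on a basis -/
def Sep (F : ShB.Pre B) : Prop :=
  ∀ (U : B) (t t' : F.obj U),
    (∀ x ∈ (U : Opens X), ∃ (T : B) (h : (T : Opens X) ≤ U), x ∈ (T : Opens X) ∧ F.res h t = F.res h t') → t = t'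

/-- families agreeing locally on overlaps -/
def LocAgree (F : ShB.Pre B) {ι : Type u} (V : ι → B) (s : ∀ i, F.obj (V i)) : Prop :=
  ∀ i j, ∀ x ∈ (V i : Opens X), x ∈ (V j : Opens X) → ∃ (T : B) (hi : (T : Opens X) ≤ V i) (hj : (T : Opens X) ≤ V j),
    x ∈ (T : Opens X) ∧ F.res hi (s i) = F.res hj (s j)

theorem locAgree_res (hB : Opens.IsBasis B) (F : ShB.Pre B) {U : B} {ι : Type u} (V : ι → B)
    (hV : ∀ i, (V i : Opens X) ≤ U) (t : F.obj U) : LocAgree F V (fun i => F.res (hV i) t) := by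
  intro i j x hi hj
  obtain ⟨T, hxT, hT⟩ := exists_member hB (show x ∈ (V i : Opens X) ⊓ V j from ⟨hi, hj⟩)
  exact ⟨T, hT.trans inf_le_left, hT.trans inf_le_right, hxT, by rw [F.res_comp, F.res_comp]⟩

theorem locAgree_of_cover (F : ShB.Pre B) (c : ShB.Cover B) (s : ∀ i, F.obj (c.V i))
    (hs : ∀ i j k, F.res (c.W_le_left i j k) (s i) = F.res (c.W_le_right i j k) (s j)) : LocAgree F c.V s := by
  intro i j x hi hj
  obtain ⟨k, hk⟩ := Opens.mem_iSup.1 (c.W_cover i j (show x ∈ (c.V i : Opens X) ⊓ c.V j from ⟨hi, hj⟩))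
  exact ⟨c.W i j k, c.W_le_left i j k, c.W_le_right i j k, hk, hs i j k⟩

theorem existsUnique_glue (F : ShB.Pre B) (hF : ShB.IsSheaf F) (U : B) {ι : Type u}
    (V : ι → B) (hV : ∀ i, (V i : Opens X) ≤ U) (hc : (U : Opens X) ≤ ⨆ i, (V i : Opens X)) (s : ∀ i, F.obj (V i))
    (hs : LocAgree F V s) : ∃! t : F.obj U, ∀ i, F.res (hV i) t = s i :=
  hF ⟨U, ι, V, hV, hc,
    fun i j => {T : B // ∃ (hi : (T : Opens X) ≤ V i) (hj : (T : Opens X) ≤ V j), F.res hi (s i) = F.res hj (s j)},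
    fun _ _ k => k.1, fun _ _ k => k.2.1, fun _ _ k => k.2.2.1,
    fun i j x hx => by
      obtain ⟨T, hi, hj, hxT, e⟩ := hs i j x hx.1 hx.2
      exact Opens.mem_iSup.2 ⟨⟨T, hi, hj, e⟩, hxT⟩⟩ s (fun _ _ k => k.2.2.2)

theorem sep_of_isSheaf (hB : Opens.IsBasis B) (F : ShB.Pre B) (hF : ShB.IsSheaf F) : Sep F := by
  intro U t t' h
  obtain ⟨t₀, -, huniq⟩ := existsUnique_glue F hF U
    (fun k : {T : B // ∃ h : (T : Opens X) ≤ U, F.res h t = F.res h t'} => k.1) (fun k => k.2.1)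
    (fun x hx => by
      obtain ⟨T, hT, hxT, e⟩ := h x hx
      exact Opens.mem_iSup.2 ⟨⟨T, hT, e⟩, hxT⟩)
    (fun k => F.res k.2.1 t) (locAgree_res hB F _ _ t)
  rw [huniq t fun k => rfl, huniq t' fun k => k.2.2.symm]

/-- equality on a member from local agreement -/
theorem res_eq_of_locAgree (hB : Opens.IsBasis B) {F : ShB.Pre B} (hF : Sep F) {ι : Type u} (V : ι → B)
    (s : ∀ i, F.obj (V i)) (hs : LocAgree F V s) (i j : ι) (W : B) (hi : (W : Opens X) ≤ V i)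
    (hj : (W : Opens X) ≤ V j) : F.res hi (s i) = F.res hj (s j) := by
  refine hF W _ _ fun x hx => ?_
  obtain ⟨T, hTi, hTj, hxT, e⟩ := hs i j x (hi hx) (hj hx)
  obtain ⟨T', hxT', hT'⟩ := exists_member hB (show x ∈ (W : Opens X) ⊓ T from ⟨hx, hxT⟩)
  refine ⟨T', hT'.trans inf_le_left, hxT', ?_⟩
  rw [F.res_comp, F.res_comp, ← res_eq F hTi (hT'.trans inf_le_right), e, res_eq F]

/-- the cofinal systems criterion -/
theorem isSheaf_of_cofinal (hB : Opens.IsBasis B) (F : ShB.Pre B) (C : ∀ U : B, Set (ShB.Cover B))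
    (hC : ∀ (U : B) (ι : Type u) (V : ι → B), (∀ i, (V i : Opens X) ≤ U) → (U : Opens X) ≤ ⨆ i, (V i : Opens X) →
      ∃ c ∈ C U, ∀ i' : c.ι, ∃ i, (c.V i' : Opens X) ≤ V i)
    (hCU : ∀ U, ∀ c ∈ C U, c.U = U)
    (huniq : ∀ U, ∀ c ∈ C U, ∀ t t' : F.obj c.U, (∀ i, F.res (c.V_le i) t = F.res (c.V_le i) t') → t = t')
    (hex : Sep F → ∀ U, ∀ c ∈ C U, ∀ s : ∀ i, F.obj (c.V i), LocAgree F c.V s →
      ∃ t : F.obj c.U, ∀ i, F.res (c.V_le i) t = s i) : ShB.IsSheaf F := by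
  have sep : Sep F := by
    intro U t t' h
    obtain ⟨c, hc, hr⟩ := hC U {T : B // ∃ h : (T : Opens X) ≤ U, F.res h t = F.res h t'} (fun k => k.1) (fun k => k.2.1)
      (fun x hx => by
        obtain ⟨T, hT, hxT, e⟩ := h x hx
        exact Opens.mem_iSup.2 ⟨⟨T, hT, e⟩, hxT⟩)
    obtain rfl := hCU U c hc
    refine huniq _ c hc t t' fun i => ?_
    obtain ⟨k, hk⟩ := hr i
    rw [← res_eq F k.2.1 hk, k.2.2, res_eq F]
  intro d s hs
  have ha := locAgree_of_cover F d s hs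
  obtain ⟨U, ι, V, hV, hcov, κ, W, hW1, hW2, hW3⟩ := d
  obtain ⟨c, hc, hr⟩ := hC U ι V hV hcov
  obtain rfl := hCU U c hc
  choose r hr using hr
  obtain ⟨t, ht⟩ := hex sep _ c hc (fun i => F.res (hr i) (s (r i))) (fun i j x hi hj => by
    obtain ⟨T, hT1, hT2, hxT, e⟩ := ha (r i) (r j) x (hr i hi) (hr j hj)
    obtain ⟨T', hxT', hT'⟩ := exists_member hB (show x ∈ (c.V i : Opens X) ⊓ c.V j ⊓ T from ⟨⟨hi, hj⟩, hxT⟩)
    refine ⟨T', hT'.trans (inf_le_left.trans inf_le_left), hT'.trans (inf_le_left.trans inf_le_right), hxT', ?_⟩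
    rw [F.res_comp, F.res_comp, ← res_eq F hT1 (hT'.trans inf_le_right), e, res_eq F])
  have key : ∀ i, F.res (hV i) t = s i := fun i => by
    refine sep _ _ _ fun x hx => ?_
    obtain ⟨i', hi'⟩ := Opens.mem_iSup.1 (c.V_cover (hV i hx))
    obtain ⟨T, hT1, hT2, hxT, e⟩ := ha i (r i') x hx (hr i' hi')
    obtain ⟨T', hxT', hT'⟩ := exists_member hB (show x ∈ (c.V i' : Opens X) ⊓ T from ⟨hi', hxT⟩)
    refine ⟨T', (hT'.trans inf_le_right).trans hT1, hxT', ?_⟩
    rw [F.res_comp, ← res_eq F hT1 (hT'.trans inf_le_right), e, ← res_eq F (c.V_le i') (hT'.trans inf_le_left), ht i',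
      F.res_comp, F.res_comp]
  refine ⟨t, key, fun t' ht' => sep _ _ _ fun x hx => ?_⟩
  obtain ⟨i, hi⟩ := Opens.mem_iSup.1 (hcov hx)
  exact ⟨V i, hV i, hi, (ht' i).trans (key i).symm⟩

theorem germ_eq (hB : Opens.IsBasis B) (F : ShB.Pre B) {U V : B} (x : X) (hU : x ∈ (U : Opens X))
    (hV : x ∈ (V : Opens X)) (s : F.obj U) (t : F.obj V) (h : ShB.germ F x hU s = ShB.germ F x hV t) :
    ∃ (W : B) (hWU : (W : Opens X) ≤ U) (hWV : (W : Opens X) ≤ V), x ∈ (W : Opens X) ∧ F.res hWU s = F.res hWV t := by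
  have hrel : Equivalence (ShB.StalkRel F x) := by
    refine ⟨fun a => ?_, ?_, ?_⟩
    · exact ⟨a.1.1, a.1.2, le_rfl, le_rfl, rfl⟩
    · rintro a b ⟨W, hx, ha, hb, e⟩
      exact ⟨W, hx, hb, ha, e.symm⟩
    · rintro a b c ⟨W, hx, ha, hb, e⟩ ⟨W', hx', hb', hc, e'⟩
      obtain ⟨T, hxT, hT⟩ := exists_member hB (show x ∈ (W : Opens X) ⊓ W' from ⟨hx, hx'⟩)
      refine ⟨T, hxT, (hT.trans inf_le_left).trans ha, (hT.trans inf_le_right).trans hc, ?_⟩
      rw [← res_eq F ha (hT.trans inf_le_left), e, F.res_comp, ← res_eq F hc (hT.trans inf_le_right), ← e', F.res_comp]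
  obtain ⟨W, hxW, hWU, hWV, e⟩ := hrel.eqvGen_iff.1 (Quot.eqvGen_exact h)
  exact ⟨W, hWU, hWV, hxW, e⟩

theorem germ_res (F : ShB.Pre B) {U V : B} (h : (V : Opens X) ≤ U) (x : X) (hx : x ∈ (V : Opens X)) (s : F.obj U) :
    ShB.germ F x hx (F.res h s) = ShB.germ F x (h hx) s :=
  Quot.sound ⟨V, hx, le_rfl, h, F.res_id V _⟩

/-- sections of the extension: compatible families on the members inside -/
def ExtSec (F : ShB.Pre B) (O : Opens X) : Type u :=
  {s : ∀ V : B, (V : Opens X) ≤ O → F.obj V //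
    ∀ (V W : B) (hV : (V : Opens X) ≤ O) (h : (W : Opens X) ≤ V), F.res h (s V hV) = s W (h.trans hV)}

/-- the extension to all opens -/
def extPre (F : ShB.Pre B) : TopCat.Presheaf (Type u) (TopCat.of X) where
  obj O := ExtSec F O.unop
  map i := ↾(fun s => ⟨fun V h => s.1 V (h.trans (leOfHom i.unop)), fun V W hV h => s.2 V W _ h⟩)
  map_id _ := rfl
  map_comp _ _ := rfl

theorem isSheaf_extPre (hB : Opens.IsBasis B) (F : ShB.Pre B) (hF : ShB.IsSheaf F) : (extPre F).IsSheaf := by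
  rw [TopCat.Presheaf.isSheaf_iff_isSheafUniqueGluing_types]
  intro ι O sf hsf
  have hsep := sep_of_isSheaf hB F hF
  have agree : ∀ i j (T : B) (hi : (T : Opens X) ≤ O i) (hj : (T : Opens X) ≤ O j), (sf i).1 T hi = (sf j).1 T hj :=
    fun i j T hi hj => congrArg (fun z : ExtSec F (O i ⊓ O j) => z.1 T (le_inf hi hj)) (hsf i j)
  have hglue : ∀ (V : B), (V : Opens X) ≤ iSup O →
      ∃! t : F.obj V, ∀ (i : ι) (T : B) (hT : (T : Opens X) ≤ V) (hi : (T : Opens X) ≤ O i), F.res hT t = (sf i).1 T hi := by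
    intro V hV
    let K := Σ i : ι, {T : B // (T : Opens X) ≤ V ∧ (T : Opens X) ≤ O i}
    obtain ⟨t, ht, hu⟩ := existsUnique_glue F hF V (fun k : K => k.2.1) (fun k => k.2.2.1)
      (fun x hx => by
        obtain ⟨i, hi⟩ := Opens.mem_iSup.1 (hV hx)
        obtain ⟨T, hxT, hT⟩ := exists_member hB (show x ∈ (V : Opens X) ⊓ O i from ⟨hx, hi⟩)
        exact Opens.mem_iSup.2 ⟨⟨i, T, hT.trans inf_le_left, hT.trans inf_le_right⟩, hxT⟩)
      (fun k => (sf k.1).1 k.2.1 k.2.2.2) (fun k l x hk hl => by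
        obtain ⟨T, hxT, hT⟩ := exists_member hB (show x ∈ (k.2.1 : Opens X) ⊓ l.2.1 from ⟨hk, hl⟩)
        refine ⟨T, hT.trans inf_le_left, hT.trans inf_le_right, hxT, ?_⟩
        rw [(sf k.1).2, (sf l.1).2]
        exact agree _ _ _ _ _)
    exact ⟨t, fun i T hT hi => ht ⟨i, T, hT, hi⟩, fun t' ht' => hu t' fun k => ht' k.1 k.2.1 k.2.2.1 k.2.2.2⟩
  choose t ht hu using fun V hV => (hglue V hV)
  let g : ExtSec F (iSup O) := ⟨t, fun V W hV h => hu W _ _ fun i T hT hi => by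
    rw [F.res_comp]; exact ht V hV i T _ hi⟩
  refine ⟨g, fun i => Subtype.ext (funext fun T => funext fun hT => ?_), fun g' hg' => Subtype.ext (funext fun V => funext fun hV => ?_)⟩
  · exact (F.res_id T _).symm.trans (ht T (hT.trans (le_iSup O i)) i T le_rfl hT)
  · refine hu V hV _ fun i T hT hi => ?_
    rw [g'.2 V T hV hT]
    exact congrArg (fun z : ExtSec F (O i) => z.1 T hi) (hg' i)

/-- the extension as a sheaf -/
def extSheaf (hB : Opens.IsBasis B) (F : ShB.Pre B) (hF : ShB.IsSheaf F) : TopCat.Sheaf (Type u) (TopCat.of X) :=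
  ⟨extPre F, isSheaf_extPre hB F hF⟩

/-- its restriction to the basis -/
def extIso (F : ShB.Pre B) : ShB.Iso (ShB.restrict B (extPre F)) F where
  hom := ⟨fun U s => s.1 U le_rfl, fun {U V} h s => s.2 U V le_rfl h⟩
  inv := ⟨fun U t => ⟨fun V h => F.res h t, fun V W hV h => F.res_comp hV h t⟩,
    fun {U V} h t => Subtype.ext (funext fun W => funext fun hW => (F.res_comp h hW t).symm)⟩
  hom_inv U s := Subtype.ext (funext fun V => funext fun hV => s.2 U V le_rfl hV)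
  inv_hom U t := F.res_id U t

/-- comparison with any sheaf restricting to `F` -/
def toExt (F : ShB.Pre B) (G : TopCat.Sheaf (Type u) (TopCat.of X)) (e : ShB.Hom (ShB.restrict B G.presheaf) F) :
    G.presheaf ⟶ extPre F where
  app O := ↾(fun s => ⟨fun V h => e.app V (G.presheaf.map (homOfLE h).op s), fun V W hV h => by
    rw [e.natural h]
    exact congrArg (e.app W) (ConcreteCategory.congr_hom (G.presheaf.map_comp (homOfLE hV).op (homOfLE h).op) s).symm⟩)
  naturality {O O'} i := by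
    ext s
    refine Subtype.ext (funext fun V => funext fun hV => congrArg (e.app V) ?_)
    exact (ConcreteCategory.congr_hom (G.presheaf.map_comp i (homOfLE hV).op) s).symm

theorem bijective_toExt (hB : Opens.IsBasis B) (F : ShB.Pre B) (G : TopCat.Sheaf (Type u) (TopCat.of X))
    (e : ShB.Iso (ShB.restrict B G.presheaf) F) (O : (Opens X)ᵒᵖ) :
    Function.Bijective ((toExt F G e.hom).app O) := by
  induction O with
  | op O =>
  let K := {V : B // (V : Opens X) ≤ O}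
  have hc : O ≤ ⨆ k : K, (k.1 : Opens X) := fun x hx => by
    obtain ⟨T, hxT, hT⟩ := exists_member hB hx
    exact Opens.mem_iSup.2 ⟨⟨T, hT⟩, hxT⟩
  refine ⟨fun s s' h => ?_, fun t => ?_⟩
  · refine TopCat.Sheaf.eq_of_locally_eq' G (fun k : K => (k.1 : Opens X)) O (fun k => homOfLE k.2) hc s s' fun k => ?_
    have h' := congrArg (fun z : ExtSec F O => e.inv.app k.1 (z.1 k.1 k.2)) h
    exact (e.hom_inv k.1 _).symm.trans (h'.trans (e.hom_inv k.1 _))
  · obtain ⟨s, hs, -⟩ := TopCat.Sheaf.existsUnique_gluing' G (fun k : K => (k.1 : Opens X)) O (fun k => homOfLE k.2) hc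
      (fun k => e.inv.app k.1 (t.1 k.1 k.2)) (fun k l => by
        let K' := {V : B // (V : Opens X) ≤ (k.1 : Opens X) ⊓ l.1}
        refine TopCat.Sheaf.eq_of_locally_eq' G (fun m : K' => (m.1 : Opens X)) _ (fun m => homOfLE m.2) (fun x hx => by
          obtain ⟨T, hxT, hT⟩ := exists_member hB hx
          exact Opens.mem_iSup.2 ⟨⟨T, hT⟩, hxT⟩) _ _ fun m => ?_
        refine ((ConcreteCategory.congr_hom (G.presheaf.map_comp _ (homOfLE m.2).op) _).symm.trans ?_).trans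
          (ConcreteCategory.congr_hom (G.presheaf.map_comp _ (homOfLE m.2).op) _)
        exact (e.inv.natural (m.2.trans inf_le_left) (t.1 k.1 k.2)).trans ((congrArg (e.inv.app m.1)
          ((t.2 k.1 m.1 k.2 (m.2.trans inf_le_left)).trans (t.2 l.1 m.1 l.2 (m.2.trans inf_le_right)).symm)).trans
          (e.inv.natural (m.2.trans inf_le_right) (t.1 l.1 l.2)).symm))
    exact ⟨s, Subtype.ext (funext fun V => funext fun hV => (congrArg (e.hom.app V) (hs ⟨V, hV⟩)).trans (e.inv_hom V _))⟩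

end Groth.Agent.ShBasis
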